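import Groth.Agent.Hensel.QuasiFiniteSplit
import Groth.Agent.Hensel.Local
import Mathlib.RingTheory.Etale.Locus
import Mathlib.RingTheory.Localization.BaseChange
import Mathlib.RingTheory.TensorProduct.Finite
import Mathlib.RingTheory.Smooth.Flat
import Mathlib.LinearAlgebra.TensorProduct.RightExactness

/-!
# The factor of a base change to a strictly henselian ring at an etale point
-/

noncomputable section

namespace Groth.Agent.H1InvEtale

universe u

open IsLocalRing TensorProduct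

set_option linter.style.haveILetI false

section Idem

variable {S : Type u} [CommRing S] {e : S}

theorem mk_one_sub (e : S) : Ideal.Quotient.mk (Ideal.span {1 - e}) e = 1 := by
  rw [← map_one (Ideal.Quotient.mk (Ideal.span {1 - e})), Ideal.Quotient.eq, Ideal.mem_span_singleton']
  exact ⟨-1, by ring⟩

theorem mul_eq_of_mk_eq (he : IsIdempotentElem e) {x y : S}
    (h : Ideal.Quotient.mk (Ideal.span {1 - e}) x = Ideal.Quotient.mk _ y) : e * x = e * y := by
  rw [Ideal.Quotient.eq, Ideal.mem_span_singleton'] at h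
  obtain ⟨c, hc⟩ := h
  linear_combination (-e) * hc - c * he.eq

theorem mk_eq_of_mul_eq {x y : S} (h : e * x = e * y) :
    Ideal.Quotient.mk (Ideal.span {1 - e}) x = Ideal.Quotient.mk _ y := by
  have := congrArg (Ideal.Quotient.mk (Ideal.span {1 - e})) h
  rwa [map_mul, map_mul, mk_one_sub, one_mul, one_mul] at this

/-- An idempotent with local factor is primitive. -/
theorem mul_eq_zero_or_eq (he : IsIdempotentElem e) [IsLocalRing (S ⧸ Ideal.span {1 - e})] {ε : S}
    (hε : IsIdempotentElem ε) : e * ε = 0 ∨ e * ε = e := by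
  have h := hε.map (Ideal.Quotient.mk (Ideal.span {1 - e}))
  rcases IsLocalRing.isUnit_or_isUnit_one_sub_self (Ideal.Quotient.mk (Ideal.span {1 - e}) ε) with hu | hu
  · right
    have h1 : Ideal.Quotient.mk (Ideal.span {1 - e}) ε = 1 := hu.mul_left_cancel (h.eq.trans (mul_one _).symm)
    have := mul_eq_of_mk_eq he (h1.trans (map_one (Ideal.Quotient.mk (Ideal.span {1 - e}))).symm)
    rwa [mul_one] at this
  · left
    have h1 : Ideal.Quotient.mk (Ideal.span {1 - e}) ε = 0 := by
      have h2 := h.one_sub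
      have h3 : 1 - Ideal.Quotient.mk (Ideal.span {1 - e}) ε = 1 := hu.mul_left_cancel (h2.eq.trans (mul_one _).symm)
      simpa using h3
    have := mul_eq_of_mk_eq he (h1.trans (map_zero (Ideal.Quotient.mk (Ideal.span {1 - e}))).symm)
    rwa [mul_zero] at this

end Idem

/-- At an etale point over a strictly henselian ring there is a factor isomorphic to the base. -/
theorem exists_factor (R : Type u) [CommRing R] [HenselianLocalRing R] [IsSepClosed (ResidueField R)]
    (S : Type u) [CommRing S] [Algebra R S] [Algebra.FinitePresentation R S] (q : Ideal S) [q.IsPrime]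
    [q.LiesOver (maximalIdeal R)] [Algebra.IsEtaleAt R q] :
    ∃ e : S, IsIdempotentElem e ∧ e ∉ q ∧ Function.Bijective (algebraMap R (S ⧸ Ideal.span {1 - e})) := by
  haveI : Algebra.QuasiFiniteAt R q := inferInstance
  obtain ⟨e, he, heq, hfin, hloc⟩ := Groth.Agent.Hensel.exists_idempotent_of_quasiFiniteAt R q
  refine ⟨e, he, heq, ?_⟩
  let T := S ⧸ Ideal.span {1 - e}
  have hq1 : 1 - e ∈ q := ((‹q.IsPrime›.mem_or_mem (show e * (1 - e) ∈ q by
    rw [mul_sub, mul_one, he.eq, sub_self]; exact zero_mem _)).resolve_left heq)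
  let qb : Ideal T := q.map (Ideal.Quotient.mk _)
  have hker : RingHom.ker (Ideal.Quotient.mk (Ideal.span {1 - e})) ≤ q := by
    rw [Ideal.mk_ker, Ideal.span_le, Set.singleton_subset_iff]; exact hq1
  have hcomap : qb.comap (Ideal.Quotient.mk _) = q := by
    rw [Ideal.comap_map_of_surjective _ Ideal.Quotient.mk_surjective, ← RingHom.ker_eq_comap_bot,
      sup_eq_left.mpr hker]
  haveI hqb : qb.IsPrime := Ideal.map_isPrime_of_surjective Ideal.Quotient.mk_surjective hker
  have hunder : qb.comap (algebraMap R T) = maximalIdeal R := by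
    rw [show algebraMap R T = (Ideal.Quotient.mk _).comp (algebraMap R S) from rfl, ← Ideal.comap_comap, hcomap]
    exact (q.over_def (maximalIdeal R)).symm
  have hqbmax : qb.IsMaximal :=
    Ideal.isMaximal_of_isIntegral_of_isMaximal_comap (R := R) qb (hunder ▸ inferInstance)
  haveI : IsLocalization.AtPrime T q := by
    constructor
    refine ⟨fun s => ?_, fun z => ?_, fun {x y} h => ⟨⟨e, heq⟩, mul_eq_of_mk_eq he h⟩⟩
    · by_contra hu
      have hmem : Ideal.Quotient.mk (Ideal.span {1 - e}) s.1 ∈ qb :=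
        (IsLocalRing.eq_maximalIdeal hqbmax).ge hu
      exact s.2 (hcomap.le (show s.1 ∈ qb.comap (Ideal.Quotient.mk _) from hmem))
    · obtain ⟨b, rfl⟩ := Ideal.Quotient.mk_surjective z
      exact ⟨(b, 1), by rw [Submonoid.coe_one, map_one, mul_one]; rfl⟩
  haveI : Algebra.FormallyEtale R T :=
    Algebra.FormallyEtale.of_equiv ((IsLocalization.algEquiv q.primeCompl (Localization.AtPrime q) T).restrictScalars R)
  haveI : Algebra.FinitePresentation R T := Algebra.FinitePresentation.quotient (Submodule.fg_span_singleton _)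
  haveI : Algebra.Etale R T := ⟨inferInstance, inferInstance⟩
  haveI : IsLocalHom (algebraMap R T) := ⟨fun r hr => by
    by_contra h
    exact hqb.ne_top (Ideal.eq_top_of_isUnit_mem _ (show algebraMap R T r ∈ qb from
      (hunder.ge ((mem_maximalIdeal r).2 h))) hr)⟩
  haveI : Module.FaithfullyFlat R T := Module.FaithfullyFlat.of_flat_of_isLocalHom
  exact ⟨FaithfulSMul.algebraMap_injective R T,
    Groth.Agent.Hensel.surjective_algebraMap_of_unramified_sepClosed⟩

/-- Base change of an etale point. -/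
theorem isEtaleAt_baseChange (B A B' : Type u) [CommRing B] [CommRing A] [CommRing B'] [Algebra B A] [Algebra B B']
    (x : Ideal A) [x.IsPrime] [Algebra.FinitePresentation B A] [Algebra.IsEtaleAt B x] (q : Ideal (B' ⊗[B] A))
    [q.IsPrime] (hq : q.comap (Algebra.TensorProduct.includeRight : A →ₐ[B] B' ⊗[B] A).toRingHom = x) :
    Algebra.IsEtaleAt B' q := by
  obtain ⟨f, hfx, hf⟩ := Algebra.exists_etale_of_isEtaleAt (R := B) x
  haveI := hf
  let g : B' ⊗[B] A := (1 : B') ⊗ₜ[B] f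
  haveI : Algebra.FormallyEtale B' (Localization.Away g) :=
    Algebra.FormallyEtale.of_equiv
      ((IsLocalization.Away.tensorProductEquivTMulRight B B' f (Localization.Away f)).restrictScalars B')
  have hgq : g ∉ q := fun h => hfx (hq ▸ h)
  exact (Algebra.basicOpen_subset_etaleLocus_iff (R := B') (f := g)).mpr inferInstance
    (show (⟨q, inferInstance⟩ : PrimeSpectrum (B' ⊗[B] A)) ∈ PrimeSpectrum.basicOpen g from hgq)

set_option maxHeartbeats 1000000 in
/-- The idempotent above a strictly henselian factor. -/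
theorem exists_idempotents_core (E B A C B' : Type u) [CommRing E] [CommRing B] [CommRing A] [CommRing C]
    [CommRing B'] [IsLocalRing C] [Algebra E C] [Algebra E B] [Algebra E A] [Algebra B A] [IsScalarTower E B A]
    [Algebra C B'] [Algebra E B'] [Algebra B B'] [IsScalarTower E C B'] [IsScalarTower E B B'] [Module.Finite C B']
    [HenselianLocalRing B'] [IsSepClosed (ResidueField B')] [Algebra.FinitePresentation B A]
    (π : C ⊗[E] B →+* B') (hπC : ∀ c : C, π (c ⊗ₜ[E] (1 : B)) = algebraMap C B' c)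
    (hπB : ∀ b : B, π ((1 : C) ⊗ₜ[E] b) = algebraMap B B' b) (hπs : Function.Surjective π)
    (eb : C ⊗[E] B) (heb : IsIdempotentElem eb) (hπk : RingHom.ker π = Ideal.span {1 - eb})
    {K : Type u} [Field K] (Φ : C ⊗[E] A →+* K)
    (hΦC : ∀ c : C, Φ (c ⊗ₜ[E] (1 : A)) = 0 ↔ c ∈ maximalIdeal C)
    (hΦb : Φ (Algebra.TensorProduct.map (AlgHom.id C C) (IsScalarTower.toAlgHom E B A) eb) = 1)
    (x : Ideal A) [x.IsPrime] (hΦA : ∀ a : A, Φ ((1 : C) ⊗ₜ[E] a) = 0 ↔ a ∈ x) [Algebra.IsEtaleAt B x] :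
    ∃ eA : C ⊗[E] A,
      IsIdempotentElem eA ∧
      IsLocalRing ((C ⊗[E] A) ⧸ Ideal.span {1 - eA}) ∧
      Φ eA = 1 ∧ eA * Algebra.TensorProduct.map (AlgHom.id C C) (IsScalarTower.toAlgHom E B A) eb = eA ∧
      (∀ t : C ⊗[E] A, ∃ β : C ⊗[E] B,
        eA * t = eA * Algebra.TensorProduct.map (AlgHom.id C C) (IsScalarTower.toAlgHom E B A) β) ∧
      ∀ β : C ⊗[E] B, eA * Algebra.TensorProduct.map (AlgHom.id C C) (IsScalarTower.toAlgHom E B A) β = 0 →
        eb * β = 0 := by
  let j : C ⊗[E] B →ₐ[C] C ⊗[E] A := Algebra.TensorProduct.map (AlgHom.id C C) (IsScalarTower.toAlgHom E B A)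
  have hπ1 : π eb = 1 := by
    have h : (1 - eb) ∈ RingHom.ker π := hπk.ge (Ideal.mem_span_singleton_self _)
    rw [RingHom.mem_ker, map_sub, map_one, sub_eq_zero] at h
    exact h.symm
  let f1 : C →ₐ[E] (B' ⊗[B] A) := (Algebra.TensorProduct.includeLeft : B' →ₐ[E] (B' ⊗[B] A)).comp (IsScalarTower.toAlgHom E C B')
  let f2 : A →ₐ[E] (B' ⊗[B] A) := (Algebra.TensorProduct.includeRight : A →ₐ[B] (B' ⊗[B] A)).restrictScalars E
  let χ : C ⊗[E] A →ₐ[E] (B' ⊗[B] A) := Algebra.TensorProduct.lift f1 f2 fun x y => mul_comm (f1 x) (f2 y)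
  have hχj : ∀ β, χ (j β) = algebraMap B' (B' ⊗[B] A) (π β) := fun β => by
    induction β with
    | zero => simp
    | tmul c b =>
      show χ (c ⊗ₜ[E] algebraMap B A b) = _
      rw [show c ⊗ₜ[E] b = (c ⊗ₜ[E] (1 : B)) * ((1 : C) ⊗ₜ[E] b) by simp, map_mul, map_mul]
      rw [hπC, hπB]
      show χ (c ⊗ₜ[E] algebraMap B A b) = _
      simp only [χ, Algebra.TensorProduct.lift_tmul]
      show algebraMap B' (B' ⊗[B] A) (algebraMap C B' c) * ((1 : B') ⊗ₜ[B] algebraMap B A b) = _
      congr 1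
      rw [Algebra.TensorProduct.algebraMap_apply, Algebra.algebraMap_self, RingHom.id_apply,
        Algebra.algebraMap_eq_smul_one, ← TensorProduct.smul_tmul, Algebra.smul_def, mul_one]
    | add u v hu hv => simp only [map_add, hu, hv]
  have hχ : Function.Surjective χ := fun z => by
    induction z with
    | zero => exact ⟨0, map_zero _⟩
    | tmul b a =>
      obtain ⟨β, rfl⟩ := hπs b
      refine ⟨j β * ((1 : C) ⊗ₜ[E] a), ?_⟩
      rw [map_mul, hχj]
      show (π β ⊗ₜ[B] (1 : A)) * (f1 1 * f2 a) = _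
      rw [map_one, one_mul]
      show (π β ⊗ₜ[B] (1 : A)) * ((1 : B') ⊗ₜ[B] a) = _
      rw [Algebra.TensorProduct.tmul_mul_tmul, mul_one, one_mul]
    | add u v hu hv =>
      obtain ⟨u, rfl⟩ := hu
      obtain ⟨v, rfl⟩ := hv
      exact ⟨u + v, map_add _ _ _⟩
  -- the inverse modulo `1 - eb`
  let I : Ideal (C ⊗[E] A) := Ideal.span {1 - j eb}
  let σ₁ : B' →+* (C ⊗[E] A) ⧸ I := RingHom.liftOfSurjective π hπs ⟨(Ideal.Quotient.mk I).comp j.toRingHom, fun z hz => by
    obtain ⟨c, rfl⟩ := Ideal.mem_span_singleton'.1 (hπk ▸ hz)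
    refine Ideal.Quotient.eq_zero_iff_mem.2 (Ideal.mem_span_singleton'.2 ⟨j c, ?_⟩)
    show j c * (1 - j eb) = j (c * (1 - eb))
    rw [map_mul, map_sub, map_one]⟩
  have hσ₁ : ∀ β, σ₁ (π β) = Ideal.Quotient.mk I (j β) := fun β =>
    RingHom.liftOfRightInverse_comp_apply _ _ _ _ β
  letI : Algebra B ((C ⊗[E] A) ⧸ I) := (σ₁.comp (algebraMap B B')).toAlgebra
  let σA : A →ₐ[B] (C ⊗[E] A) ⧸ I :=
    { toRingHom := (Ideal.Quotient.mk I).comp (Algebra.TensorProduct.includeRight : A →ₐ[E] C ⊗[E] A).toRingHom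
      commutes' := fun b => by
        show Ideal.Quotient.mk I ((1 : C) ⊗ₜ[E] algebraMap B A b) = σ₁ (algebraMap B B' b)
        rw [← hπB, hσ₁]
        rfl }
  let σB : B' →ₐ[B] (C ⊗[E] A) ⧸ I := { toRingHom := σ₁, commutes' := fun _ => rfl }
  let σ : (B' ⊗[B] A) →ₐ[B] (C ⊗[E] A) ⧸ I := Algebra.TensorProduct.lift σB σA fun x y => mul_comm (σB x) (σA y)
  have hσ : ∀ t, σ (χ t) = Ideal.Quotient.mk I t := fun t => by
    induction t with
    | zero => simp
    | tmul c a =>
      rw [show c ⊗ₜ[E] a = j (c ⊗ₜ[E] (1 : B)) * ((1 : C) ⊗ₜ[E] a) by simp [j], map_mul, map_mul, map_mul, hχj]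
      congr 1
      · show σ (π (c ⊗ₜ[E] (1 : B)) ⊗ₜ[B] (1 : A)) = _
        simp only [σ, Algebra.TensorProduct.lift_tmul, map_one, mul_one]
        exact hσ₁ _
      · show σ (f1 1 * f2 a) = _
        rw [map_one, one_mul]
        show σ ((1 : B') ⊗ₜ[B] a) = _
        simp only [σ, Algebra.TensorProduct.lift_tmul, map_one, one_mul]
        rfl
    | add u v hu hv => simp only [map_add, hu, hv]
  -- the point of `(B' ⊗[B] A)`
  let ΦI : (C ⊗[E] A) ⧸ I →+* K := Ideal.Quotient.lift _ Φ fun z hz => by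
    obtain ⟨c, rfl⟩ := Ideal.mem_span_singleton'.1 hz
    rw [map_mul, map_sub, map_one, hΦb, sub_self, mul_zero]
  have hΦS : ∀ t, ΦI (σ (χ t)) = Φ t := fun t => by rw [hσ]; rfl
  let q : Ideal (B' ⊗[B] A) := RingHom.ker (ΦI.comp σ.toRingHom)
  haveI : q.IsPrime := RingHom.ker_isPrime _
  have hq : q.comap (Algebra.TensorProduct.includeRight : A →ₐ[B] (B' ⊗[B] A)).toRingHom = x := by
    ext a
    rw [Ideal.mem_comap, RingHom.mem_ker, RingHom.comp_apply, ← hΦA, ← hΦS ((1 : C) ⊗ₜ[E] a)]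
    show ΦI (σ ((1 : B') ⊗ₜ[B] a)) = 0 ↔ ΦI (σ (f1 1 * f2 a)) = 0
    rw [map_one, one_mul]
    rfl
  haveI : q.LiesOver (maximalIdeal B') := ⟨by
    refine (IsLocalRing.eq_maximalIdeal ?_).symm
    refine Ideal.isMaximal_of_isIntegral_of_isMaximal_comap (R := C) _ ?_
    have : (Ideal.under B' q).comap (algebraMap C B') = maximalIdeal C := by
      ext c
      rw [Ideal.under_def, Ideal.mem_comap, Ideal.mem_comap, RingHom.mem_ker, RingHom.comp_apply, ← hΦC]
      show ΦI (σ (algebraMap B' (B' ⊗[B] A) (algebraMap C B' c))) = 0 ↔ _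
      rw [← hπC, ← hχj, hΦS, show j (c ⊗ₜ[E] (1 : B)) = c ⊗ₜ[E] (1 : A) by simp [j]]
    rw [this]
    infer_instance⟩
  haveI := isEtaleAt_baseChange B A B' x q hq
  obtain ⟨e, he, heq, hbij⟩ := exists_factor B' (B' ⊗[B] A) q
  obtain ⟨et, rfl⟩ := hχ e
  refine ⟨j eb * et, ?_, ?_, ?_, ?_, fun t => ?_, fun β hβ => ?_⟩
  · have h1 : Ideal.Quotient.mk I (et * et) = Ideal.Quotient.mk I et := by
      rw [← hσ, ← hσ, map_mul, he.eq]
    have h2 : j eb * (et * et) = j eb * et := mul_eq_of_mk_eq (heb.map j) h1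
    show j eb * et * (j eb * et) = j eb * et
    linear_combination (et * et) * (heb.map j).eq + h2
  · haveI hS : IsLocalRing ((B' ⊗[B] A) ⧸ Ideal.span {1 - χ et}) :=
      (RingEquiv.ofBijective _ hbij).isLocalRing
    let eA := j eb * et
    have hle : I ≤ Ideal.span {1 - eA} := ((Ideal.span_singleton_le_iff_mem _).2
        (Ideal.mem_span_singleton'.2 ⟨1 - j eb, by
          show (1 - j eb) * (1 - j eb * et) = 1 - j eb
          linear_combination et * (heb.map j).eq⟩))
    let θ : (B' ⊗[B] A) →+* (C ⊗[E] A) ⧸ Ideal.span {1 - eA} := (Ideal.Quotient.factor hle).comp σ.toRingHom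
    have hθ : θ (1 - χ et) = 0 := by
      show Ideal.Quotient.factor hle (σ (1 - χ et)) = 0
      rw [map_sub, map_one, hσ, ← map_one (Ideal.Quotient.mk I), ← map_sub, Ideal.Quotient.factor_mk]
      refine Ideal.Quotient.eq_zero_iff_mem.2 (Ideal.mem_span_singleton'.2 ⟨1 - et, ?_⟩)
      show (1 - et) * (1 - j eb * et) = 1 - et
      have h1 : Ideal.Quotient.mk I (et * et) = Ideal.Quotient.mk I et := by
        rw [← hσ, ← hσ, map_mul, he.eq]
      linear_combination mul_eq_of_mk_eq (heb.map j) h1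
    have hne : Φ eA = 1 := by
      show Φ (j eb * et) = 1
      rw [map_mul, hΦb, one_mul]
      refine ((IsIdempotentElem.iff_eq_zero_or_one.1 ?_).resolve_left fun h0 => heq ?_)
      · have := (he.map σ).map ΦI
        rwa [hΦS] at this
      · show ΦI (σ (χ et)) = 0
        rw [hΦS]; exact h0
    haveI : Nontrivial ((C ⊗[E] A) ⧸ Ideal.span {1 - eA}) := Ideal.Quotient.nontrivial_iff.2 fun h => by
      have h1 : Φ (1 - eA) = 0 := by rw [map_sub, map_one, hne, sub_self]
      exact one_ne_zero ((RingHom.ker Φ).eq_top_iff_one.1 (top_le_iff.1 (h ▸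
        (Ideal.span_singleton_le_iff_mem _).2 h1)) |> fun h => (map_one Φ).symm.trans h)
    refine IsLocalRing.of_surjective' (Ideal.Quotient.lift (Ideal.span {1 - χ et}) θ fun z hz => by
      obtain ⟨c, rfl⟩ := Ideal.mem_span_singleton'.1 hz
      rw [map_mul, hθ, mul_zero]) fun w => ?_
    obtain ⟨t, rfl⟩ := Ideal.Quotient.mk_surjective w
    exact ⟨Ideal.Quotient.mk _ (χ t), by
      rw [Ideal.Quotient.lift_mk]
      show Ideal.Quotient.factor hle (σ (χ t)) = _
      rw [hσ]; rfl⟩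
  · rw [map_mul, hΦb, one_mul]
    refine ((IsIdempotentElem.iff_eq_zero_or_one.1 ?_).resolve_left fun h0 => heq ?_)
    · have := (he.map σ).map ΦI
      rwa [hΦS] at this
    · show ΦI (σ (χ et)) = 0
      rw [hΦS]; exact h0
  · show j eb * et * j eb = j eb * et
    linear_combination et * (heb.map j).eq
  · obtain ⟨b', hb'⟩ := hbij.2 (Ideal.Quotient.mk _ (χ t))
    obtain ⟨β, rfl⟩ := hπs b'
    refine ⟨β, ?_⟩
    have h1 : χ et * χ t = χ et * χ (j β) := by
      rw [hχj]
      exact (mul_eq_of_mk_eq he hb').symm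
    have h2 := congrArg σ h1
    rw [← map_mul χ, ← map_mul χ, hσ, hσ] at h2
    have h3 := mul_eq_of_mk_eq (heb.map j) h2
    show j eb * et * t = j eb * et * j β
    linear_combination h3
  · have h1 : χ (j eb * et * j β) = 0 := by
      rw [show j eb * et * j β = 0 from hβ, map_zero]
    rw [map_mul, map_mul, hχj, hχj, show π eb = 1 from hπ1, map_one, one_mul] at h1
    have h2 : algebraMap B' ((B' ⊗[B] A) ⧸ Ideal.span {1 - χ et}) (π β) = 0 := by
      have h3 := congrArg (Ideal.Quotient.mk (Ideal.span {1 - χ et})) h1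
      rw [map_mul, map_zero, mk_one_sub, one_mul] at h3
      exact h3
    have h4 : β ∈ Ideal.span {1 - eb} := hπk ▸ RingHom.mem_ker.mpr (hbij.1 (h2.trans (map_zero _).symm))
    obtain ⟨c, rfl⟩ := Ideal.mem_span_singleton'.1 h4
    linear_combination (-c) * heb.eq


set_option maxHeartbeats 1000000 in
/-- The two idempotents at a geometric point over the closed point of a strictly henselian base. -/
theorem exists_idempotents (E B A C : Type u) [CommRing E] [CommRing B] [CommRing A] [CommRing C]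
    [HenselianLocalRing C] [IsSepClosed (ResidueField C)] [Algebra E C] [Algebra E B] [Algebra E A] [Algebra B A]
    [IsScalarTower E B A] [Module.Finite E B] [Algebra.FinitePresentation B A]
    {K : Type u} [Field K] (Φ : C ⊗[E] A →+* K)
    (hΦC : ∀ c : C, Φ (c ⊗ₜ[E] (1 : A)) = 0 ↔ c ∈ maximalIdeal C)
    (x : Ideal A) [x.IsPrime] (hΦA : ∀ a : A, Φ ((1 : C) ⊗ₜ[E] a) = 0 ↔ a ∈ x) [Algebra.IsEtaleAt B x] :
    ∃ (eb : C ⊗[E] B) (eA : C ⊗[E] A),
      IsIdempotentElem eb ∧ IsIdempotentElem eA ∧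
      IsLocalRing ((C ⊗[E] B) ⧸ Ideal.span {1 - eb}) ∧
      IsLocalRing ((C ⊗[E] A) ⧸ Ideal.span {1 - eA}) ∧
      Φ eA = 1 ∧ eA * Algebra.TensorProduct.map (AlgHom.id C C) (IsScalarTower.toAlgHom E B A) eb = eA ∧
      (∀ t : C ⊗[E] A, ∃ β : C ⊗[E] B,
        eA * t = eA * Algebra.TensorProduct.map (AlgHom.id C C) (IsScalarTower.toAlgHom E B A) β) ∧
      ∀ β : C ⊗[E] B, eA * Algebra.TensorProduct.map (AlgHom.id C C) (IsScalarTower.toAlgHom E B A) β = 0 →
        eb * β = 0 := by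
  let j : C ⊗[E] B →ₐ[C] C ⊗[E] A := Algebra.TensorProduct.map (AlgHom.id C C) (IsScalarTower.toAlgHom E B A)
  let bb : Ideal (C ⊗[E] B) := RingHom.ker (Φ.comp j.toRingHom)
  haveI : bb.IsPrime := RingHom.ker_isPrime _
  haveI : bb.LiesOver (maximalIdeal C) := ⟨by
    ext c
    rw [Ideal.under_def, Ideal.mem_comap, RingHom.mem_ker, RingHom.comp_apply]
    show c ∈ _ ↔ Φ (j (c ⊗ₜ[E] (1 : B))) = 0
    rw [show j (c ⊗ₜ[E] (1 : B)) = c ⊗ₜ[E] (1 : A) by simp [j], hΦC]⟩
  obtain ⟨eb, heb, hebb, hBfin, hBloc⟩ := Groth.Agent.Hensel.exists_idempotent_of_quasiFiniteAt C bb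
  let B' := (C ⊗[E] B) ⧸ Ideal.span {1 - eb}
  let π : C ⊗[E] B →+* B' := Ideal.Quotient.mk _
  haveI : HenselianLocalRing B' := Groth.Agent.Hensel.henselianLocalRing_of_finite C B'
  have hΦb : Φ (j eb) = 1 := by
    have h : IsIdempotentElem (Φ (j eb)) := (heb.map j).map Φ
    exact ((IsIdempotentElem.iff_eq_zero_or_one.1 h).resolve_left fun h0 => hebb h0)
  let Φb : B' →+* K := Ideal.Quotient.lift _ (Φ.comp j.toRingHom) fun z hz => by
    obtain ⟨c, rfl⟩ := Ideal.mem_span_singleton'.1 hz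
    show Φ (j (c * (1 - eb))) = 0
    rw [map_mul, map_mul, map_sub, map_sub, map_one, map_one, hΦb, sub_self, mul_zero]
  have hmC : ∀ c ∈ maximalIdeal C, algebraMap C B' c ∈ maximalIdeal B' := fun c hc hu => by
    have h1 : Φb (algebraMap C B' c) = 0 := by
      show Φ (j (c ⊗ₜ[E] (1 : B))) = 0
      rw [show j (c ⊗ₜ[E] (1 : B)) = c ⊗ₜ[E] (1 : A) by simp [j], hΦC]
      exact hc
    exact (hu.map Φb).ne_zero h1
  haveI : IsLocalHom (algebraMap C B') := ⟨fun c hc => by
    by_contra h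
    exact hmC c ((mem_maximalIdeal c).2 h) hc⟩
  haveI : IsSepClosed (ResidueField B') := by
    haveI : Algebra.IsAlgebraic (ResidueField C) (ResidueField B') := Algebra.IsAlgebraic.of_finite _ _
    exact Algebra.IsAlgebraic.isSepClosed (F := ResidueField C)
  -- the base change to `B'`
  letI : Algebra B B' := (π.comp (Algebra.TensorProduct.includeRight : B →ₐ[E] C ⊗[E] B).toRingHom).toAlgebra
  haveI : IsScalarTower E B B' := .of_algebraMap_eq fun e => by
    show π (algebraMap E (C ⊗[E] B) e) = π ((Algebra.TensorProduct.includeRight : B →ₐ[E] C ⊗[E] B) (algebraMap E B e))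
    rw [AlgHom.commutes]
  obtain ⟨eA, h⟩ := exists_idempotents_core E B A C B' π (fun _ => rfl) (fun _ => rfl) Ideal.Quotient.mk_surjective
    eb heb Ideal.mk_ker Φ hΦC hΦb x hΦA
  exact ⟨eb, eA, heb, h.1, hBloc, h.2.1, h.2.2⟩

end Groth.Agent.H1InvEtale
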