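import Groth.Agent.H1InvEtale.Main
import Mathlib.RingTheory.Adjoin.Tower
import Mathlib.RingTheory.Invariant.Basic
import Mathlib.RingTheory.Ideal.GoingUp
import Mathlib.Algebra.Algebra.Subalgebra.Tower

/-!
# The case of fixed subalgebras
-/

noncomputable section

namespace Groth.Agent.H1InvEtale

universe u

set_option linter.style.haveILetI false

variable (R B : Type u) [CommRing R] [CommRing B] [Algebra R B] (G : Type u) [Group G] [MulSemiringAction G B]
  [SMulCommClass G R B]

theorem smulCommClass_fixedPoints : SMulCommClass G (FixedPoints.subalgebra R B G) B :=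
  ⟨fun g e b => by
    show g • ((e : B) * b) = (e : B) * (g • b)
    rw [smul_mul', e.2 g]⟩

theorem isInvariant_fixedPoints : Algebra.IsInvariant (FixedPoints.subalgebra R B G) B G :=
  ⟨fun b hb => ⟨⟨b, hb⟩, rfl⟩⟩

theorem finite_fixedPoints [Finite G] [Algebra.FiniteType R B] : Module.Finite (FixedPoints.subalgebra R B G) B := by
  haveI := smulCommClass_fixedPoints R B G
  haveI := isInvariant_fixedPoints R B G
  haveI : Algebra.IsIntegral (FixedPoints.subalgebra R B G) B :=
    Algebra.IsInvariant.isIntegral (FixedPoints.subalgebra R B G) B G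
  haveI : Algebra.FiniteType (FixedPoints.subalgebra R B G) B :=
    Algebra.FiniteType.of_restrictScalars_finiteType R _ B
  exact Algebra.IsIntegral.finite

theorem finiteType_fixedPoints [Finite G] [IsNoetherianRing R] [Algebra.FiniteType R B] :
    Algebra.FiniteType R (FixedPoints.subalgebra R B G) := by
  haveI := finite_fixedPoints R B G
  exact ⟨fg_of_fg_of_fg R (FixedPoints.subalgebra R B G) B Algebra.FiniteType.out Module.Finite.fg_top
    Subtype.val_injective⟩

variable (A : Type u) [CommRing A] [Algebra R A] [MulSemiringAction G A] [SMulCommClass G R A]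
  [Algebra B A] [IsScalarTower R B A]
  [Algebra (FixedPoints.subalgebra R B G) (FixedPoints.subalgebra R A G)]
  [IsScalarTower (FixedPoints.subalgebra R B G) (FixedPoints.subalgebra R A G) A]

theorem finiteType_fixedPoints_hom [Finite G] [IsNoetherianRing R] [Algebra.FiniteType R A] :
    Algebra.FiniteType (FixedPoints.subalgebra R B G) (FixedPoints.subalgebra R A G) := by
  haveI := finiteType_fixedPoints R A G
  haveI : IsScalarTower R (FixedPoints.subalgebra R B G) (FixedPoints.subalgebra R A G) :=
    .of_algebraMap_eq fun r => (FaithfulSMul.algebraMap_injective (FixedPoints.subalgebra R A G) A) (by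
      rw [← IsScalarTower.algebraMap_apply (FixedPoints.subalgebra R B G) (FixedPoints.subalgebra R A G) A]
      show algebraMap R A r = algebraMap B A (algebraMap R B r)
      exact IsScalarTower.algebraMap_apply R B A r)
  exact Algebra.FiniteType.of_restrictScalars_finiteType R _ _

/-- Etaleness of the invariants below a point with equal inertia. -/
theorem isEtaleAt_fixedPoints [Finite G] [IsNoetherianRing R] [Algebra.FiniteType R A] [Algebra.FiniteType R B]
    (hGeq : ∀ (g : G) (b : B), algebraMap B A (g • b) = g • algebraMap B A b)
    (x : Ideal A) [x.IsPrime] (hx : Algebra.IsEtaleAt B x)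
    (hin : x.inertia G = (x.comap (algebraMap B A)).inertia G) :
    Algebra.IsEtaleAt (FixedPoints.subalgebra R B G)
      (x.comap (algebraMap (FixedPoints.subalgebra R A G) A)) := by
  haveI := smulCommClass_fixedPoints R B G
  haveI := isInvariant_fixedPoints R B G
  haveI := isInvariant_fixedPoints R A G
  haveI := finite_fixedPoints R B G
  haveI := finiteType_fixedPoints R B G
  haveI := finiteType_fixedPoints_hom R B G A
  haveI : IsNoetherianRing (FixedPoints.subalgebra R B G) := Algebra.FiniteType.isNoetherianRing R _
  haveI : IsNoetherianRing B := Algebra.FiniteType.isNoetherianRing R B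
  haveI : Algebra.FiniteType B A := Algebra.FiniteType.of_restrictScalars_finiteType R B A
  haveI : Algebra.FinitePresentation B A := Algebra.FinitePresentation.of_finiteType.mp inferInstance
  haveI : SMulCommClass G (FixedPoints.subalgebra R B G) A := ⟨fun g e a => by
    rw [Algebra.smul_def, Algebra.smul_def, smul_mul']
    show g • algebraMap B A (e : B) * g • a = algebraMap B A (e : B) * g • a
    rw [← hGeq, e.2 g]⟩
  refine isEtaleAt_of_invariant (FixedPoints.subalgebra R B G) B (FixedPoints.subalgebra R A G) A G
    Subtype.val_injective Subtype.val_injective (fun g f => f.2 g) hGeq x fun g hg a => ?_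
  have hmem : g ∈ (x.comap (algebraMap B A)).inertia G := fun b => by
    show algebraMap B A (g • b - b) ∈ x
    rw [map_sub, hGeq]
    exact hg b
  rw [← hin] at hmem
  exact hmem a

/-- Global etaleness of the invariants. -/
theorem etale_fixedPoints [Finite G] [IsNoetherianRing R] [Algebra.FiniteType R A] [Algebra.FiniteType R B]
    (hGeq : ∀ (g : G) (b : B), algebraMap B A (g • b) = g • algebraMap B A b)
    (h : ∀ (x : Ideal A) (_ : x.IsMaximal),
      Algebra.IsEtaleAt B x ∧ x.inertia G = (x.comap (algebraMap B A)).inertia G) :
    Algebra.Etale (FixedPoints.subalgebra R B G) (FixedPoints.subalgebra R A G) := by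
  haveI := smulCommClass_fixedPoints R A G
  haveI := isInvariant_fixedPoints R A G
  haveI := finiteType_fixedPoints R B G
  haveI := finiteType_fixedPoints_hom R B G A
  haveI : IsNoetherianRing (FixedPoints.subalgebra R B G) := Algebra.FiniteType.isNoetherianRing R _
  haveI : Algebra.FinitePresentation (FixedPoints.subalgebra R B G) (FixedPoints.subalgebra R A G) :=
    Algebra.FinitePresentation.of_finiteType.mp inferInstance
  haveI : Algebra.IsIntegral (FixedPoints.subalgebra R A G) A :=
    Algebra.IsInvariant.isIntegral (FixedPoints.subalgebra R A G) A G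
  refine ⟨Algebra.etaleLocus_eq_univ_iff.1 (Set.eq_univ_iff_forall.2 ?_), inferInstance⟩
  intro z
  obtain ⟨m, hm, hzm⟩ := Ideal.exists_le_maximal z.asIdeal z.isPrime.ne_top
  haveI := hm
  obtain ⟨x, hxmax, hxm⟩ := Ideal.exists_ideal_over_maximal_of_isIntegral (S := A) m (by
    rw [(RingHom.injective_iff_ker_eq_bot _).1 Subtype.val_injective]
    exact bot_le)
  haveI := hxmax
  refine Algebra.isOpen_etaleLocus.stableUnderGeneralization
    ((PrimeSpectrum.le_iff_specializes _ ⟨m, hm.isPrime⟩).1 hzm) ?_
  show Algebra.IsEtaleAt _ m
  have h1 := isEtaleAt_fixedPoints R B G A hGeq x (h x hxmax).1 (h x hxmax).2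
  subst hxm
  exact h1

end Groth.Agent.H1InvEtale
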