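import Mathlib.Algebra.GroupWithZero.Action.Pointwise.Finset
import Mathlib.Algebra.BigOperators.GroupWithZero.Action
import Mathlib.Algebra.Ring.Action.Basic
import Mathlib.Algebra.Ring.Idempotent
import Mathlib.GroupTheory.GroupAction.Quotient
import Mathlib.GroupTheory.Coset.Card
import Mathlib.RingTheory.LocalRing.Basic
import Mathlib.Data.Fintype.Quotient
import Mathlib.Tactic.LinearCombination
import Mathlib.Algebra.BigOperators.Ring.Finset

/-!
# Invariant idempotents from orbits of primitive idempotents
-/

noncomputable section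

namespace Groth.Agent.H1InvEtale

variable {G : Type*} [Group G]

/-- A translate of a primitive idempotent is itself or orthogonal to it. -/
theorem smul_eq_or_mul_smul_eq_zero {S : Type*} [CommRing S] [MulSemiringAction G S] {e : S}
    (he : IsIdempotentElem e) (hprim : ∀ ε : S, IsIdempotentElem ε → e * ε = 0 ∨ e * ε = e) (g : G) :
    g • e = e ∨ e * g • e = 0 := by
  rcases hprim (g • e) (he.map (MulSemiringAction.toRingHom G S g)) with h | h
  · exact Or.inr h
  · left
    rcases hprim (g⁻¹ • e) (he.map (MulSemiringAction.toRingHom G S g⁻¹)) with h' | h'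
    · have h'' := congrArg (g • ·) h'
      simp only [smul_mul', smul_inv_smul, smul_zero] at h''
      rw [mul_comm, h] at h''
      rw [h'', smul_zero]
    · have h'' := congrArg (g • ·) h'
      simp only [smul_mul', smul_inv_smul] at h''
      rw [mul_comm, h] at h''
      exact h''.symm

/-- The product of the complements of the translates. -/
def orbitProd (G : Type*) [Group G] [Finite G] {S : Type*} [CommRing S] [MulSemiringAction G S] (e : S) : S :=
  letI := Fintype.ofFinite G
  ∏ g : G, (1 - g • e)

variable [Finite G] {S : Type*} [CommRing S] [MulSemiringAction G S] {e : S}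

theorem smul_orbitProd (g : G) : g • orbitProd G e = orbitProd G e := by
  letI := Fintype.ofFinite G
  rw [orbitProd, Finset.smul_prod']
  refine (Finset.prod_congr rfl fun h _ => ?_).trans
    (Equiv.prod_comp (Equiv.mulLeft g) fun h : G => 1 - h • e)
  rw [smul_sub, smul_one, ← mul_smul]
  rfl

theorem isIdempotentElem_orbitProd (he : IsIdempotentElem e) : IsIdempotentElem (orbitProd G e) := by
  letI := Fintype.ofFinite G
  show orbitProd G e * orbitProd G e = _
  rw [orbitProd, ← Finset.prod_mul_distrib]
  exact Finset.prod_congr rfl fun h _ => ((he.map (MulSemiringAction.toRingHom G S h)).one_sub).eq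

theorem orbitProd_mul_self (he : IsIdempotentElem e) : orbitProd G e * e = 0 := by
  classical
  letI := Fintype.ofFinite G
  rw [orbitProd, ← Finset.mul_prod_erase _ _ (Finset.mem_univ (1 : G)), one_smul, mul_right_comm,
    sub_mul, one_mul, he.eq, sub_self, zero_mul]

theorem orbitProd_mul_of_forall {z : S} (h : ∀ g : G, g • e * z = 0) : orbitProd G e * z = z := by
  letI := Fintype.ofFinite G
  rw [orbitProd]
  refine Finset.prod_induction (fun g : G => 1 - g • e) (fun p => p * z = z) (fun a b ha hb => ?_)
    (one_mul z) (fun g _ => ?_)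
  · rw [mul_assoc, hb, ha]
  · rw [sub_mul, one_mul, h g, sub_zero]

/-- Cutting out the base ring inside the invariants by the orbit of a primitive idempotent. -/
theorem exists_cut {C Sb SA T : Type*} [CommRing C] [IsLocalRing C] [CommRing Sb] [CommRing SA] [CommRing T]
    [MulSemiringAction G Sb] [MulSemiringAction G SA]
    (j : Sb →+* SA) (hj : ∀ (g : G) β, j (g • β) = g • j β)
    (ι : T →+* SA) (hι : Function.Injective ι) (hιfix : ∀ (g : G) t, g • ι t = ι t)
    (hιinv : ∀ s, (∀ g : G, g • s = s) → ∃ t, ι t = s)
    (ab : C →+* Sb) (aT : C →+* T) (hcomp : ∀ c, ι (aT c) = j (ab c)) (hab : Function.Injective ab)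
    (habfix : ∀ (g : G) c, g • ab c = ab c) (hbinv : ∀ β, (∀ g : G, g • β = β) → ∃ c, ab c = β)
    (eb : Sb) (eA : SA) (heb : IsIdempotentElem eb) (heA : IsIdempotentElem eA) (heb0 : eb ≠ 0)
    (hprimb : ∀ ε, IsIdempotentElem ε → eb * ε = 0 ∨ eb * ε = eb)
    (hAb : eA * j eb = eA) (hsurj : ∀ s, ∃ β, eA * s = eA * j β) (hinj : ∀ β, eA * j β = 0 → eb * β = 0)
    (hstab : ∀ g : G, g • eb = eb → g • eA = eA) :
    ∃ eT : T, IsIdempotentElem eT ∧ ι eT * eA = eA ∧ (∀ t, ∃ c, eT * t = eT * aT c) ∧
      ∀ c, eT * aT c = 0 → c = 0 := by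
  obtain ⟨eT, heT⟩ := hιinv (1 - orbitProd G eA) fun g => by rw [smul_sub, smul_one, smul_orbitProd]
  have heTA : ι eT * eA = eA := by rw [heT, sub_mul, one_mul, orbitProd_mul_self heA, sub_zero]
  refine ⟨eT, hι (by rw [map_mul, heT, (isIdempotentElem_orbitProd heA).one_sub.eq]), heTA, fun t => ?_,
    fun c hc => ?_⟩
  · obtain ⟨β, hβ⟩ := hsurj (ι t)
    have hu : ∀ g : G, g • eb = eb → g • (eb * β) = eb * β := fun g hg => by
      have h1 := congrArg (g • ·) hβ
      simp only [smul_mul', hstab g hg, hιfix, ← hj] at h1
      have h2 := hinj (g • β - β) (by rw [map_sub, mul_sub, ← h1, ← hβ, sub_self])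
      rw [smul_mul', hg]
      linear_combination h2
    let H := MulAction.stabilizer G eb
    let f : G ⧸ H → Sb := fun q => Quotient.liftOn' q (fun g => g • (eb * β)) fun a b hab => by
      have h : (a⁻¹ * b) • eb = eb := QuotientGroup.leftRel_apply.mp hab
      conv_rhs => rw [← mul_inv_cancel_left a b, mul_smul, hu _ h]
    have hf : ∀ (g : G) q, f (g • q) = g • f q := fun g q => by
      induction q using QuotientGroup.induction_on with
      | _ a => exact mul_smul g a _
    letI : Fintype (G ⧸ H) := Fintype.ofFinite _
    obtain ⟨c, hc⟩ := hbinv (∑ q, f q) fun g => by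
      rw [Finset.smul_sum]
      exact (Finset.sum_congr rfl fun q _ => (hf g q).symm).trans (Equiv.sum_comp (MulAction.toPerm g) f)
    have hsum : eb * ab c = eb * β := by
      rw [hc, Finset.mul_sum, Finset.sum_eq_single (QuotientGroup.mk 1 : G ⧸ H)]
      · show eb * ((1 : G) • (eb * β)) = _
        rw [one_smul, ← mul_assoc, heb.eq]
      · intro q _ hq
        induction q using QuotientGroup.induction_on with
        | _ a =>
          show eb * (a • (eb * β)) = 0
          rcases smul_eq_or_mul_smul_eq_zero heb hprimb a with h | h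
          · exact absurd (QuotientGroup.eq.2 (show (a⁻¹ * 1) • eb = eb by
              rw [mul_one]; exact inv_smul_eq_iff.2 h.symm)) hq
          · rw [smul_mul', ← mul_assoc, h, zero_mul]
      · exact fun h => absurd (Finset.mem_univ _) h
    have h3 : eA * ι t = eA * ι (aT c) := by
      rw [hβ, hcomp]
      conv_lhs => rw [← hAb, mul_assoc, ← map_mul, ← hsum, map_mul, ← mul_assoc, hAb]
    refine ⟨c, hι ?_⟩
    have h4 : orbitProd G eA * (ι t - ι (aT c)) = ι t - ι (aT c) := orbitProd_mul_of_forall fun g => by
      have h5 := congrArg (g • ·) h3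
      simp only [smul_mul', hιfix] at h5
      rw [mul_sub, h5, sub_self]
    rw [map_mul, map_mul, heT]
    linear_combination -h4
  · have h1 : eA * j (ab c) = 0 := by
      have := congrArg ι hc
      rw [map_mul, map_zero, hcomp] at this
      rw [← heTA, mul_comm (ι eT), mul_assoc, this, mul_zero]
    have h2 : eb * ab c = 0 := hinj _ h1
    have h3 : orbitProd G eb * ab c = ab c := orbitProd_mul_of_forall fun g => by
      have h := congrArg (g • ·) h2
      simpa only [smul_mul', habfix, smul_zero] using h
    obtain ⟨e0, he0⟩ := hbinv (orbitProd G eb) smul_orbitProd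
    have h4 : IsIdempotentElem e0 := hab (by rw [map_mul, he0, (isIdempotentElem_orbitProd heb).eq])
    rcases IsLocalRing.isUnit_or_isUnit_one_sub_self e0 with hu | hu
    · exfalso
      have he1 : e0 = 1 := hu.mul_left_cancel (h4.eq.trans (mul_one _).symm)
      have h5 := orbitProd_mul_self (G := G) heb
      rw [← he0, he1, map_one, one_mul] at h5
      exact heb0 h5
    · have he1 : e0 = 0 := by
        have := hu.mul_left_cancel (h4.one_sub.eq.trans (mul_one _).symm)
        simpa using this
      rw [← he0, he1, map_zero, zero_mul] at h3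
      exact hab (h3.symm.trans (map_zero ab).symm)

end Groth.Agent.H1InvEtale
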