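import Groth.Agent.H1InvEtale.Factor
import Groth.Agent.H1InvEtale.Orbit
import Groth.Agent.S12933
import Mathlib.FieldTheory.PurelyInseparable.Basic
import Mathlib.FieldTheory.AlgebraicClosure

/-!
# The invariants after base change to a strict henselization
-/

noncomputable section

namespace Groth.Agent.H1InvEtale

universe u

open IsLocalRing TensorProduct

set_option linter.style.haveILetI false

/-- The action on a base change. -/
@[instance_reducible]
def tensorAction (C E B G : Type u) [CommRing C] [CommRing E] [CommRing B] [Algebra E C] [Algebra E B] [Group G]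
    [MulSemiringAction G B] [SMulCommClass G E B] : MulSemiringAction G (C ⊗[E] B) where
  smul g x := Algebra.TensorProduct.map (AlgHom.id E C) (MulSemiringAction.toAlgHom E B g) x
  one_smul x := by
    show Algebra.TensorProduct.map (AlgHom.id E C) (MulSemiringAction.toAlgHom E B (1 : G)) x = x
    induction x with
    | zero => simp
    | tmul c b => simp
    | add u v hu hv => rw [map_add, hu, hv]
  mul_smul g h x := by
    show Algebra.TensorProduct.map (AlgHom.id E C) (MulSemiringAction.toAlgHom E B (g * h)) x =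
      Algebra.TensorProduct.map (AlgHom.id E C) (MulSemiringAction.toAlgHom E B g)
        (Algebra.TensorProduct.map (AlgHom.id E C) (MulSemiringAction.toAlgHom E B h) x)
    induction x with
    | zero => simp
    | tmul c b => simp [mul_smul]
    | add u v hu hv => rw [map_add, map_add, map_add, hu, hv]
  smul_zero g := map_zero (Algebra.TensorProduct.map (AlgHom.id E C) (MulSemiringAction.toAlgHom E B g))
  smul_add g := map_add (Algebra.TensorProduct.map (AlgHom.id E C) (MulSemiringAction.toAlgHom E B g))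
  smul_one g := map_one (Algebra.TensorProduct.map (AlgHom.id E C) (MulSemiringAction.toAlgHom E B g))
  smul_mul g := map_mul (Algebra.TensorProduct.map (AlgHom.id E C) (MulSemiringAction.toAlgHom E B g))

/-- Maximal ideals containing the complement of an idempotent with local factor coincide. -/
theorem eq_of_isLocalRing_quotient {S : Type u} [CommRing S] {J : Ideal S} [IsLocalRing (S ⧸ J)] {P Q : Ideal S}
    (hP : P.IsMaximal) (hQ : Q.IsMaximal) (hJP : J ≤ P) (hJQ : J ≤ Q) : P = Q := by
  have key : ∀ M : Ideal S, M.IsMaximal → J ≤ M → M = (maximalIdeal (S ⧸ J)).comap (Ideal.Quotient.mk J) :=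
    fun M hM hJM => by
      refine hM.eq_of_le (Ideal.comap_ne_top _ (maximalIdeal.isMaximal _).ne_top) fun s hs => ?_
      refine le_maximalIdeal ?_ (Ideal.mem_map_of_mem (Ideal.Quotient.mk J) hs)
      intro h
      have h2 := congrArg (Ideal.comap (Ideal.Quotient.mk J)) h
      rw [Ideal.comap_map_of_surjective _ Ideal.Quotient.mk_surjective, ← RingHom.ker_eq_comap_bot,
        Ideal.mk_ker, sup_eq_left.mpr hJM, Ideal.comap_top] at h2
      exact hM.ne_top h2
  rw [key P hP hJP, key Q hQ hJQ]

/-- A factor of a flat algebra is flat. -/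
theorem flat_of_factor {F T C : Type u} [CommRing F] [CommRing T] [CommRing C] [Algebra F T] [Module.Flat F T]
    (r : T →+* C) (a : C →+* T) (hra : ∀ c, r (a c) = c) (eT : T) (_ : IsIdempotentElem eT)
    (hre : ∀ t, eT * t = eT * a (r t)) (hr1 : r eT = 1) :
    letI := (r.comp (algebraMap F T)).toAlgebra; Module.Flat F C := by
  letI := (r.comp (algebraMap F T)).toAlgebra
  let s : C →ₗ[F] T :=
    { toFun := fun c => eT * a c
      map_add' := fun c d => by rw [map_add, mul_add]
      map_smul' := fun f c => by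
        rw [RingHom.id_apply, Algebra.smul_def, Algebra.smul_def, map_mul, ← mul_assoc,
          show algebraMap F C f = r (algebraMap F T f) from rfl, ← hre]
        ring }
  let rl : T →ₗ[F] C :=
    { toFun := r
      map_add' := map_add r
      map_smul' := fun f t => by rw [RingHom.id_apply, Algebra.smul_def, Algebra.smul_def, map_mul]; rfl }
  refine Module.Flat.of_retract s rl (LinearMap.ext fun c => ?_)
  show r (eT * a c) = c
  rw [map_mul, hra, hr1, one_mul]

attribute [local instance] tensorAction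

variable (E B F A C : Type u) [CommRing E] [CommRing B] [CommRing F] [CommRing A] [CommRing C]
  [Algebra E C] [Algebra E B] [Algebra E F] [Algebra E A] [Algebra B A] [Algebra F A]
  [IsScalarTower E B A] [IsScalarTower E F A]
  (G : Type u) [Group G] [MulSemiringAction G B] [MulSemiringAction G A] [SMulCommClass G E B] [SMulCommClass G E A]

theorem map_smul_tensor (hGeq : ∀ (g : G) (b : B), algebraMap B A (g • b) = g • algebraMap B A b) (g : G)
    (β : C ⊗[E] B) :
    Algebra.TensorProduct.map (AlgHom.id C C) (IsScalarTower.toAlgHom E B A) (g • β) =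
      g • Algebra.TensorProduct.map (AlgHom.id C C) (IsScalarTower.toAlgHom E B A) β := by
  induction β with
  | zero => simp
  | tmul c b =>
    show c ⊗ₜ[E] algebraMap B A (g • b) = c ⊗ₜ[E] (g • algebraMap B A b)
    rw [hGeq]
  | add u v hu hv => rw [smul_add, map_add, map_add, smul_add, hu, hv]

set_option maxHeartbeats 1000000 in
/-- The base ring is a factor of the invariants after a strictly henselian base change. -/
theorem exists_hom_henselian [Module.Flat E C] [HenselianLocalRing C] [IsSepClosed (ResidueField C)]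
    [Module.Finite E B] [Algebra.FinitePresentation B A] [Finite G] [Algebra.IsInvariant E B G]
    [Algebra.IsInvariant F A G] (hEB : Function.Injective (algebraMap E B))
    (hFA : Function.Injective (algebraMap F A)) (hFfix : ∀ (g : G) (f : F), g • algebraMap F A f = algebraMap F A f)
    (hGeq : ∀ (g : G) (b : B), algebraMap B A (g • b) = g • algebraMap B A b)
    {K : Type u} [Field K] (ψC : C →+* K) (ψA : A →+* K)
    (hψ : ψC.comp (algebraMap E C) = ψA.comp (algebraMap E A)) (hψC : RingHom.ker ψC = maximalIdeal C)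
    (x : Ideal A) [x.IsPrime] (hψA : RingHom.ker ψA = x) [Algebra.IsEtaleAt B x]
    (hin : ∀ g : G, (∀ b : B, g • algebraMap B A b - algebraMap B A b ∈ x) → ∀ a : A, g • a - a ∈ x) :
    ∃ θ : F →+* C, θ.comp (algebraMap E F) = algebraMap E C ∧
      (maximalIdeal C).comap θ = x.comap (algebraMap F A) ∧ (letI := θ.toAlgebra; Module.Flat F C) := by
  letI : Algebra E K := (ψC.comp (algebraMap E C)).toAlgebra
  let αC : C →ₐ[E] K := { toRingHom := ψC, commutes' := fun _ => rfl }
  let αA : A →ₐ[E] K := { toRingHom := ψA, commutes' := fun e => (RingHom.congr_fun hψ e).symm }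
  let Φh : C ⊗[E] A →ₐ[E] K := Algebra.TensorProduct.lift αC αA fun c a => mul_comm (αC c) (αA a)
  let Φ : C ⊗[E] A →+* K := Φh.toRingHom
  have hΦt : ∀ c a, Φ (c ⊗ₜ[E] a) = ψC c * ψA a := fun c a => Algebra.TensorProduct.lift_tmul _ _ _ c a
  have hΦC : ∀ c : C, Φ (c ⊗ₜ[E] (1 : A)) = 0 ↔ c ∈ maximalIdeal C := fun c => by
    rw [hΦt, map_one, mul_one, ← hψC, RingHom.mem_ker]
  have hΦA : ∀ a : A, Φ ((1 : C) ⊗ₜ[E] a) = 0 ↔ a ∈ x := fun a => by
    rw [hΦt, map_one, one_mul, ← hψA, RingHom.mem_ker]
  obtain ⟨eb, eA, heb, heA, hBloc, hAloc, hΦeA, hAb, hsurj, hinj⟩ := exists_idempotents E B A C Φ hΦC x hΦA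
  let j : C ⊗[E] B →ₐ[C] C ⊗[E] A := Algebra.TensorProduct.map (AlgHom.id C C) (IsScalarTower.toAlgHom E B A)
  have hΦeb : Φ (j eb) = 1 := by
    have h := congrArg Φ hAb
    rwa [map_mul, hΦeA, one_mul] at h
  have hjC : ∀ c : C, j (c ⊗ₜ[E] (1 : B)) = c ⊗ₜ[E] (1 : A) := fun c => by simp [j]
  let bb : Ideal (C ⊗[E] B) := RingHom.ker (Φ.comp j.toRingHom)
  haveI hbbp : bb.IsPrime := RingHom.ker_isPrime _
  have hbbC : ∀ c : C, c ⊗ₜ[E] (1 : B) ∈ bb ↔ c ∈ maximalIdeal C := fun c => by
    rw [RingHom.mem_ker, RingHom.comp_apply]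
    show Φ (j (c ⊗ₜ[E] (1 : B))) = 0 ↔ _
    rw [hjC, hΦC]
  have hebb : 1 - eb ∈ bb := by
    rw [RingHom.mem_ker, RingHom.comp_apply]
    show Φ (j (1 - eb)) = 0
    rw [map_sub, map_one, map_sub, map_one, hΦeb, sub_self]
  -- stabilizers of the factor lie in the inertia subgroup
  have hstab : ∀ g : G, g • eb = eb → g • eA = eA := fun g hg => by
    have hbbg : ∀ β ∈ bb, g • β ∈ bb := by
      let Q : Ideal (C ⊗[E] B) := bb.comap (MulSemiringAction.toRingHom G _ g)
      haveI : Q.IsPrime := Ideal.comap_isPrime _ _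
      have hP : bb.IsMaximal := Ideal.isMaximal_of_isIntegral_of_isMaximal_comap (R := C) bb (by
        have : bb.comap (algebraMap C (C ⊗[E] B)) = maximalIdeal C := Ideal.ext fun c => hbbC c
        rw [this]; infer_instance)
      have hQ : Q.IsMaximal := Ideal.isMaximal_of_isIntegral_of_isMaximal_comap (R := C) Q (by
        have : Q.comap (algebraMap C (C ⊗[E] B)) = maximalIdeal C := Ideal.ext fun c => by
          show c ⊗ₜ[E] (g • (1 : B)) ∈ bb ↔ _
          rw [smul_one, hbbC]
        rw [this]; infer_instance)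
      have h1 : (1 : C ⊗[E] B) - eb ∈ Q := by
        show g • (1 - eb) ∈ bb
        rwa [smul_sub, smul_one, hg]
      have hQP : Q = bb := eq_of_isLocalRing_quotient (J := Ideal.span {1 - eb}) hQ hP
        ((Ideal.span_singleton_le_iff_mem _).2 h1) ((Ideal.span_singleton_le_iff_mem _).2 hebb)
      exact fun β hβ => show β ∈ Q from hQP ▸ hβ
    haveI : IsLocalHom ψC := ⟨fun c hc => by
      by_contra h
      exact hc.ne_zero (RingHom.mem_ker.1 (hψC ▸ (mem_maximalIdeal c).2 h))⟩
    letI : Algebra (ResidueField C) K := (ResidueField.lift ψC).toAlgebra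
    haveI : IsScalarTower E (ResidueField C) K := .of_algebraMap_eq fun _ => rfl
    obtain ⟨q, _⟩ := ExpChar.exists (ResidueField C)
    haveI : ExpChar K q := expChar_of_injective_algebraMap (algebraMap (ResidueField C) K).injective q
    haveI : Algebra.IsAlgebraic (ResidueField C) (algebraicClosure (ResidueField C) K) := inferInstance
    have hb : ∀ b : B, ψA (g • algebraMap B A b) = ψA (algebraMap B A b) := fun b => by
      have hint : IsIntegral (ResidueField C) (ψA (algebraMap B A b)) :=
        ((Algebra.IsIntegral.isIntegral (R := E) b).map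
          (αA.comp (IsScalarTower.toAlgHom E B A))).tower_top
      obtain ⟨n, y, hy⟩ := IsPurelyInseparable.pow_mem (ResidueField C) q
        (⟨ψA (algebraMap B A b), mem_algebraicClosure_iff'.2 hint⟩ : algebraicClosure (ResidueField C) K)
      obtain ⟨c, rfl⟩ := residue_surjective y
      have hy' : ψC c = ψA (algebraMap B A b) ^ q ^ n := congrArg Subtype.val hy
      have hmem : ((1 : C) ⊗ₜ[E] b) ^ q ^ n - c ⊗ₜ[E] (1 : B) ∈ bb := by
        rw [RingHom.mem_ker, RingHom.comp_apply]
        show Φ (j _) = 0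
        rw [map_sub, map_sub, map_pow, map_pow, hjC, hΦt, map_one, mul_one]
        show Φ ((1 : C) ⊗ₜ[E] algebraMap B A b) ^ q ^ n - ψC c = 0
        rw [hΦt, map_one, one_mul, hy', sub_self]
      have h := hbbg _ hmem
      rw [smul_sub, smul_pow', RingHom.mem_ker, RingHom.comp_apply] at h
      change Φ (j (((1 : C) ⊗ₜ[E] (g • b)) ^ q ^ n - c ⊗ₜ[E] (g • (1 : B)))) = 0 at h
      rw [smul_one, map_sub, map_sub, map_pow, map_pow, hjC, hΦt, map_one, mul_one] at h
      change Φ ((1 : C) ⊗ₜ[E] algebraMap B A (g • b)) ^ q ^ n - ψC c = 0 at h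
      rw [hΦt, map_one, one_mul, hy', sub_eq_zero, hGeq] at h
      exact iterateFrobenius_inj K q n (by rwa [iterateFrobenius_def, iterateFrobenius_def])
    have hA : ∀ a : A, ψA (g • a) = ψA a := fun a => by
      have h := hin g (fun b => hψA.le (RingHom.mem_ker.2 (by rw [map_sub, hb, sub_self]))) a
      rw [← hψA, RingHom.mem_ker, map_sub, sub_eq_zero] at h
      exact h
    have hΦg : ∀ s, Φ (g • s) = Φ s := fun s => by
      induction s with
      | zero => simp
      | tmul c a =>
        show Φ (c ⊗ₜ[E] (g • a)) = _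
        rw [hΦt, hΦt, hA]
      | add u v hu hv => rw [smul_add, map_add, map_add, hu, hv]
    haveI := hAloc
    rcases smul_eq_or_mul_smul_eq_zero heA (fun ε hε => mul_eq_zero_or_eq heA hε) g with h | h
    · exact h
    · exfalso
      have h' := congrArg Φ h
      rw [map_mul, hΦg, hΦeA, mul_one, map_zero] at h'
      exact one_ne_zero h'
  -- invariants
  let ι : C ⊗[E] F →ₐ[C] C ⊗[E] A := Algebra.TensorProduct.map (AlgHom.id C C) (IsScalarTower.toAlgHom E F A)
  have hι : Function.Injective ι := by
    have h := Module.Flat.lTensor_preserves_injective_linearMap (M := C)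
      (IsScalarTower.toAlgHom E F A).toLinearMap hFA
    intro s t hst
    refine h ?_
    have hmap : ∀ s : C ⊗[E] F, (IsScalarTower.toAlgHom E F A).toLinearMap.lTensor C s = ι s := fun s => by
      induction s with
      | zero => simp
      | tmul c f => rfl
      | add u v hu hv => rw [map_add, map_add, hu, hv]
    rw [hmap, hmap, hst]
  have hιfix : ∀ (g : G) (t : C ⊗[E] F), g • ι t = ι t := fun g t => by
    induction t with
    | zero => simp
    | tmul c f =>
      show c ⊗ₜ[E] (g • algebraMap F A f) = c ⊗ₜ[E] algebraMap F A f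
      rw [hFfix]
    | add u v hu hv => rw [map_add, smul_add, hu, hv]
  have hιinv : ∀ s : C ⊗[E] A, (∀ g : G, g • s = s) → ∃ t, ι t = s := fun s hs => by
    have h := (Groth.Agent.S12933.result E A G C s).1 hs
    refine (Submodule.span_le (p := LinearMap.range ι.toLinearMap)).2 ?_ h
    rintro _ ⟨a, ha, rfl⟩
    obtain ⟨f, rfl⟩ := Algebra.IsInvariant.isInvariant (A := F) a ha
    exact ⟨(1 : C) ⊗ₜ[E] f, rfl⟩
  have hbinv : ∀ β : C ⊗[E] B, (∀ g : G, g • β = β) → ∃ c, algebraMap C (C ⊗[E] B) c = β := fun β hβ => by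
    have h := (Groth.Agent.S12933.result E B G C β).1 hβ
    refine (Submodule.span_le (p := LinearMap.range (Algebra.linearMap C (C ⊗[E] B)))).2 ?_ h
    rintro _ ⟨b, hb, rfl⟩
    obtain ⟨e, rfl⟩ := Algebra.IsInvariant.isInvariant (A := E) b hb
    refine ⟨algebraMap E C e, ?_⟩
    show algebraMap E C e ⊗ₜ[E] (1 : B) = (1 : C) ⊗ₜ[E] algebraMap E B e
    rw [Algebra.algebraMap_eq_smul_one, Algebra.algebraMap_eq_smul_one, TensorProduct.smul_tmul]
  haveI := hBloc
  obtain ⟨eT, heT, heTA, hTs, hTi⟩ := exists_cut (G := G) j.toRingHom (map_smul_tensor E B A C G hGeq)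
    ι.toRingHom hι hιfix hιinv (algebraMap C (C ⊗[E] B)) (algebraMap C (C ⊗[E] F))
    (fun c => (ι.commutes c).trans (j.commutes c).symm)
    (Algebra.TensorProduct.includeLeft_injective (S := C) hEB)
    (fun g c => show c ⊗ₜ[E] (g • (1 : B)) = c ⊗ₜ[E] (1 : B) by rw [smul_one]) hbinv eb eA heb heA
    (fun h => one_ne_zero (α := K) (by rw [← hΦeb, h, map_zero, map_zero]))
    (fun ε hε => mul_eq_zero_or_eq heb hε) hAb hsurj hinj hstab
  -- the factor
  have hbij : Function.Bijective
      ((Ideal.Quotient.mk (Ideal.span {1 - eT})).comp (algebraMap C (C ⊗[E] F))) := by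
    constructor
    · rw [injective_iff_map_eq_zero]
      intro c hc
      obtain ⟨d, hd⟩ := Ideal.mem_span_singleton'.1 (Ideal.Quotient.eq_zero_iff_mem.1 hc)
      exact hTi c (by linear_combination (-eT) * hd - d * heT.eq)
    · intro w
      obtain ⟨t, rfl⟩ := Ideal.Quotient.mk_surjective w
      obtain ⟨c, hc⟩ := hTs t
      exact ⟨c, mk_eq_of_mul_eq hc.symm⟩
  let r : C ⊗[E] F →+* C := (RingEquiv.ofBijective _ hbij).symm.toRingHom.comp (Ideal.Quotient.mk _)
  have hr : ∀ c : C, r (c ⊗ₜ[E] (1 : F)) = c := fun c => (RingEquiv.ofBijective _ hbij).symm_apply_apply c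
  have hre : ∀ t : C ⊗[E] F, eT * t = eT * (r t ⊗ₜ[E] (1 : F)) := fun t =>
    mul_eq_of_mk_eq heT ((RingEquiv.ofBijective _ hbij).apply_symm_apply _).symm
  let θ : F →+* C := r.comp (Algebra.TensorProduct.includeRight : F →ₐ[E] C ⊗[E] F).toRingHom
  refine ⟨θ, ?_, ?_, ?_⟩
  · ext e
    show r ((Algebra.TensorProduct.includeRight : F →ₐ[E] C ⊗[E] F) (algebraMap E F e)) = _
    rw [AlgHom.commutes]
    exact hr _
  · ext f
    have hΦeT : Φ (ι eT) = 1 := by
      have h := congrArg Φ heTA
      rwa [map_mul, hΦeA, mul_one] at h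
    have h := congrArg (fun z => Φ (ι z)) (hre ((1 : C) ⊗ₜ[E] f))
    simp only [map_mul, hΦeT, one_mul] at h
    change Φ ((1 : C) ⊗ₜ[E] algebraMap F A f) = Φ (θ f ⊗ₜ[E] algebraMap F A 1) at h
    rw [map_one] at h
    rw [Ideal.mem_comap, Ideal.mem_comap, ← hΦC, ← h, hΦA]
  · letI : Algebra F (C ⊗[E] F) := Algebra.TensorProduct.rightAlgebra
    let e : (F ⊗[E] C) ≃ₐ[F] C ⊗[E] F :=
      AlgEquiv.ofRingEquiv (f := (Algebra.TensorProduct.comm E F C).toRingEquiv) fun f => rfl
    haveI : Module.Flat F (C ⊗[E] F) := Module.Flat.of_linearEquiv (M := F ⊗[E] C) e.symm.toLinearEquiv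
    exact flat_of_factor r (Algebra.TensorProduct.includeLeftRingHom : C →+* C ⊗[E] F) hr eT heT hre
      (((RingEquiv.ofBijective _ hbij).symm.toRingHom.congr_arg (mk_one_sub eT)).trans (map_one _))

end Groth.Agent.H1InvEtale
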