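import Groth.Agent.H1InvEtale.Henselian
import Groth.Agent.EtLoc7.Basic
import Groth.Agent.S0537
import Groth.Agent.Hensel.HenselizationProps
import Mathlib.FieldTheory.IsAlgClosed.Basic
import Mathlib.FieldTheory.IsAlgClosed.AlgebraicClosure
import Mathlib.FieldTheory.IntermediateField.Adjoin.Algebra
import Mathlib.RingTheory.Flat.FaithfullyFlat.Algebra

/-!
# Invariants of an equivariant etale morphism
-/

noncomputable section

namespace Groth.Agent.H1InvEtale

universe u

open IsLocalRing TensorProduct

set_option linter.style.haveILetI false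

/-- Flatness descends along a faithfully flat algebra. -/
theorem flat_bot (R S T : Type u) [CommRing R] [CommRing S] [CommRing T] [Algebra R S] [Algebra S T] [Algebra R T]
    [IsScalarTower R S T] [Module.FaithfullyFlat S T] [Module.Flat R T] : Module.Flat R S := by
  rw [Module.Flat.iff_lTensor_preserves_injective_linearMap]
  intro M N _ _ _ _ f hf
  let g : (S ⊗[R] M) →ₗ[S] (S ⊗[R] N) := TensorProduct.AlgebraTensorModule.lTensor S S f
  have hT : Function.Injective (g.lTensor T) := by
    have h1 : ∀ z, (TensorProduct.AlgebraTensorModule.cancelBaseChange R S S T N) (g.lTensor T z) =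
        f.lTensor T ((TensorProduct.AlgebraTensorModule.cancelBaseChange R S S T M) z) := by
      intro z
      induction z using TensorProduct.induction_on with
      | zero => simp
      | tmul c w =>
        induction w using TensorProduct.induction_on with
        | zero => simp
        | tmul b m => simp [g]
        | add w w' hw hw' => rw [tmul_add, map_add, map_add, map_add, map_add, hw, hw']
      | add z z' hz hz' => simp [map_add, hz, hz']
    intro z z' h
    apply (TensorProduct.AlgebraTensorModule.cancelBaseChange R S S T M).injective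
    apply Module.Flat.lTensor_preserves_injective_linearMap (M := T) f hf
    rw [← h1, ← h1, h]
  exact (Module.FaithfullyFlat.lTensor_injective_iff_injective S T g).1 hT

variable (E B F A : Type u) [CommRing E] [CommRing B] [CommRing F] [CommRing A]
  [Algebra E B] [Algebra E F] [Algebra E A] [Algebra B A] [Algebra F A]
  [IsScalarTower E B A] [IsScalarTower E F A]
  (G : Type u) [Group G] [MulSemiringAction G B] [MulSemiringAction G A] [SMulCommClass G E B] [SMulCommClass G E A]

set_option maxHeartbeats 1000000 in
/-- The invariants are etale below an etale point with equal inertia. -/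
theorem isEtaleAt_of_invariant [IsNoetherianRing E] [Algebra.FiniteType E F]
    [Module.Finite E B] [Algebra.FinitePresentation B A] [Finite G] [Algebra.IsInvariant E B G]
    [Algebra.IsInvariant F A G] (hEB : Function.Injective (algebraMap E B))
    (hFA : Function.Injective (algebraMap F A)) (hFfix : ∀ (g : G) (f : F), g • algebraMap F A f = algebraMap F A f)
    (hGeq : ∀ (g : G) (b : B), algebraMap B A (g • b) = g • algebraMap B A b)
    (x : Ideal A) [x.IsPrime] [Algebra.IsEtaleAt B x]
    (hin : ∀ g : G, (∀ b : B, g • algebraMap B A b - algebraMap B A b ∈ x) → ∀ a : A, g • a - a ∈ x) :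
    Algebra.IsEtaleAt E (x.comap (algebraMap F A)) := by
  let y : Ideal E := x.comap (algebraMap E A)
  haveI : y.IsPrime := Ideal.comap_isPrime _ _
  let z : Ideal F := x.comap (algebraMap F A)
  haveI : z.IsPrime := Ideal.comap_isPrime _ _
  haveI : z.LiesOver y := ⟨by
    show x.comap (algebraMap E A) = (x.comap (algebraMap F A)).comap (algebraMap E F)
    rw [Ideal.comap_comap, ← IsScalarTower.algebraMap_eq]⟩
  let R := Localization.AtPrime y
  obtain ⟨C, _, _, _, _, hC⟩ := Groth.Agent.S0537.result R
  haveI := hC
  haveI : HenselianLocalRing C := hC.henselian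
  haveI hcl : IsSepClosure (ResidueField R) (ResidueField C) := hC.isSepClosure
  haveI : IsSepClosed (ResidueField C) := hcl.sep_closed
  haveI : Module.FaithfullyFlat R C := Groth.Agent.Hensel.faithfullyFlat_of_isStrictHenselization R C
  letI : Algebra E C := ((algebraMap R C).comp (algebraMap E R)).toAlgebra
  haveI : IsScalarTower E R C := .of_algebraMap_eq fun _ => rfl
  haveI : Module.Flat E R := IsLocalization.flat R y.primeCompl
  haveI : Module.Flat E C := Module.Flat.trans E R C
  -- the geometric point
  let K := AlgebraicClosure x.ResidueField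
  let ψA : A →+* K := (algebraMap x.ResidueField K).comp (algebraMap A x.ResidueField)
  have hψA : RingHom.ker ψA = x := by
    rw [RingHom.ker_eq_comap_bot, ← Ideal.comap_comap, ← RingHom.ker_eq_comap_bot,
      (RingHom.injective_iff_ker_eq_bot _).1 (algebraMap x.ResidueField K).injective,
      ← RingHom.ker_eq_comap_bot, Ideal.ker_algebraMap_residueField]
  let ρ : y.ResidueField →+* K :=
    (algebraMap x.ResidueField K).comp (Ideal.ResidueField.map y x (algebraMap E A) rfl)
  letI : Algebra (ResidueField R) K := ρ.toAlgebra
  haveI : Algebra.IsSeparable (ResidueField R) (ResidueField C) := IsSepClosure.isSeparable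
  let σ : ResidueField C →ₐ[ResidueField R] K := IsAlgClosed.lift
  let ψC : C →+* K := σ.toRingHom.comp (residue C)
  have hψC : RingHom.ker ψC = maximalIdeal C := by
    rw [RingHom.ker_eq_comap_bot, ← Ideal.comap_comap, ← RingHom.ker_eq_comap_bot,
      (RingHom.injective_iff_ker_eq_bot _).1 σ.toRingHom.injective, ← RingHom.ker_eq_comap_bot, ker_residue]
  have hres : ∀ e : E, residue C (algebraMap E C e) =
      algebraMap (ResidueField R) (ResidueField C) (residue R (algebraMap E R e)) := fun e => rfl
  have hψ : ψC.comp (algebraMap E C) = ψA.comp (algebraMap E A) := by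
    ext e
    show σ (residue C (algebraMap E C e)) = _
    rw [hres, AlgHom.commutes]
    show algebraMap x.ResidueField K (Ideal.ResidueField.map y x (algebraMap E A) rfl (algebraMap E y.ResidueField e)) = _
    rw [Ideal.ResidueField.map_algebraMap]
    rfl
  obtain ⟨θ, hθE, hθz, hθflat⟩ := exists_hom_henselian E B F A C G hEB hFA hFfix hGeq ψC ψA hψ hψC x hψA hin
  letI : Algebra F C := θ.toAlgebra
  haveI : Module.Flat F C := hθflat
  haveI : IsScalarTower E F C := .of_algebraMap_eq fun e => (RingHom.congr_fun hθE e).symm
  have hunit : ∀ s : z.primeCompl, IsUnit (θ s) := fun s =>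
    notMem_maximalIdeal.1 fun h => s.2 (hθz.le (Ideal.mem_comap.2 h))
  let Fz := Localization.AtPrime z
  letI : Algebra Fz C := (IsLocalization.lift hunit : Fz →+* C).toAlgebra
  haveI : IsScalarTower F Fz C := .of_algebraMap_eq fun f => (IsLocalization.lift_eq hunit f).symm
  haveI : IsScalarTower E Fz C := .of_algebraMap_eq fun e => by
    rw [IsScalarTower.algebraMap_apply E F Fz, ← IsScalarTower.algebraMap_apply F Fz C,
      ← IsScalarTower.algebraMap_apply E F C]
  haveI : Module.Flat Fz C := (Module.flat_iff_of_isLocalization Fz z.primeCompl C).2 inferInstance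
  haveI : IsLocalHom (algebraMap Fz C) := ⟨fun w hw => by
    obtain ⟨f, s, rfl⟩ := IsLocalization.exists_mk'_eq z.primeCompl w
    by_contra hn
    have hf : f ∈ z := by
      by_contra hf
      exact hn ((IsLocalization.AtPrime.isUnit_mk'_iff Fz z f s).2 hf)
    have h0 : θ f ∈ maximalIdeal C := hθz.ge hf
    have h1 := IsLocalization.lift_mk'_spec (S := Fz) (hg := hunit) f (algebraMap Fz C (IsLocalization.mk' Fz f s)) s
    exact (mem_maximalIdeal _).1 h0 ((h1.1 rfl) ▸ (hunit s).mul hw)⟩
  haveI : Module.FaithfullyFlat Fz C := Module.FaithfullyFlat.of_flat_of_isLocalHom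
  letI := Localization.AtPrime.algebraOfLiesOver y z
  haveI : Module.Flat E Fz := flat_bot E Fz C
  refine (Groth.Agent.EtLoc7.isEtaleAt_iff E F y z).2 ⟨?_, ?_, ?_⟩
  · exact (Module.flat_iff_of_isLocalization R y.primeCompl Fz).2 inferInstance
  · rw [← (y.map (algebraMap E Fz)).comap_map_eq_self_of_faithfullyFlat (B := C), Ideal.map_map,
      ← IsScalarTower.algebraMap_eq, show algebraMap E C = (algebraMap R C).comp (algebraMap E R) from rfl,
      ← Ideal.map_map, Localization.AtPrime.map_eq_maximalIdeal,
      Groth.Agent.Hensel.map_maximalIdeal_of_isStrictHenselization R C]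
    exact ((local_hom_TFAE (algebraMap Fz C)).out 0 4).1 ‹IsLocalHom (algebraMap Fz C)›
  · haveI : IsScalarTower R Fz C := .of_algebraMap_eq' (IsLocalization.ringHom_ext y.primeCompl (by
      rw [RingHom.comp_assoc, ← IsScalarTower.algebraMap_eq E R Fz, ← IsScalarTower.algebraMap_eq E Fz C,
        ← IsScalarTower.algebraMap_eq E R C]))
    letI : Algebra z.ResidueField (ResidueField C) := (ResidueField.map (algebraMap Fz C)).toAlgebra
    haveI : IsScalarTower y.ResidueField z.ResidueField (ResidueField C) := .of_algebraMap_eq fun w => by
      obtain ⟨w, rfl⟩ := residue_surjective w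
      show residue C (algebraMap R C w) = residue C (algebraMap Fz C (algebraMap R Fz w))
      rw [← IsScalarTower.algebraMap_apply R Fz C]
    haveI : Algebra.IsSeparable y.ResidueField z.ResidueField :=
      Algebra.isSeparable_tower_bot_of_isSeparable y.ResidueField z.ResidueField (ResidueField C)
    exact ⟨Algebra.finite_of_essFiniteType_of_isAlgebraic, inferInstance⟩

end Groth.Agent.H1InvEtale
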